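import Groth.Agent.L02.CAlg.QFSlice.RegSeq
import Mathlib.RingTheory.RingHom.StandardSmooth
import Mathlib.RingTheory.RingHom.Etale
import Mathlib.RingTheory.Unramified.Finite
import Mathlib.RingTheory.TensorProduct.Maps
import Mathlib.Algebra.MvPolynomial.Monad

/-!
# The kernel of a retraction of a standard smooth algebra is locally cut out by a regular sequence
-/

set_option autoImplicit false
universe u

open RingTheory.Sequence
open scoped TensorProduct

namespace Groth.L16.SmoothSection

/-- An étale map from a polynomial ring can be translated so that the retraction kills the variables. -/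
theorem exists_translated {R B : Type u} [CommRing R] [CommRing B] (φ : R →+* B)
    (q : B →+* R) (hq : q.comp φ = RingHom.id R) {n : ℕ} (g : MvPolynomial (Fin n) R →+* B)
    (hg : g.comp MvPolynomial.C = φ) (het : g.Etale) :
    ∃ g : MvPolynomial (Fin n) R →+* B, g.comp MvPolynomial.C = φ ∧ g.Etale ∧
      q.comp g = MvPolynomial.constantCoeff := by
  let c : Fin n → R := fun i => q (g (MvPolynomial.X i))
  let t : MvPolynomial (Fin n) R →ₐ[R] MvPolynomial (Fin n) R :=
    MvPolynomial.aeval fun i => MvPolynomial.X i - MvPolynomial.C (c i)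
  let t' : MvPolynomial (Fin n) R →ₐ[R] MvPolynomial (Fin n) R :=
    MvPolynomial.aeval fun i => MvPolynomial.X i + MvPolynomial.C (c i)
  have h1 : t.comp t' = AlgHom.id R _ := MvPolynomial.algHom_ext fun i => by simp [t, t']
  have h2 : t'.comp t = AlgHom.id R _ := MvPolynomial.algHom_ext fun i => by simp [t, t']
  let e : MvPolynomial (Fin n) R ≃+* MvPolynomial (Fin n) R := (AlgEquiv.ofAlgHom t t' h1 h2).toRingEquiv
  refine ⟨g.comp e.toRingHom, ?_, RingHom.Etale.respectsIso.2 g e het, ?_⟩
  · ext r
    show g (t (MvPolynomial.C r)) = φ r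
    rw [show t (MvPolynomial.C r) = MvPolynomial.C r from t.commutes r]
    exact RingHom.congr_fun hg r
  · refine MvPolynomial.ringHom_ext (fun r => ?_) (fun i => ?_)
    · show q (g (t (MvPolynomial.C r))) = _
      rw [show t (MvPolynomial.C r) = MvPolynomial.C r from t.commutes r,
        show g (MvPolynomial.C r) = φ r from RingHom.congr_fun hg r, MvPolynomial.constantCoeff_C]
      exact RingHom.congr_fun hq r
    · show q (g (t (MvPolynomial.X i))) = _
      rw [show t (MvPolynomial.X i) = MvPolynomial.X i - MvPolynomial.C (c i) from MvPolynomial.aeval_X _ i,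
        map_sub, map_sub, show g (MvPolynomial.C (c i)) = φ (c i) from RingHom.congr_fun hg _,
        show q (φ (c i)) = c i from RingHom.congr_fun hq _, MvPolynomial.constantCoeff_X]
      exact sub_self _

/-- Near a section, the kernel of the retraction is generated by a weakly regular sequence. -/
theorem exists_regular_sequence_of_etale {R B : Type u} [CommRing R] [CommRing B] (φ : R →+* B)
    (q : B →+* R) (hq : q.comp φ = RingHom.id R) {n : ℕ} (g₀ : MvPolynomial (Fin n) R →+* B)
    (hg₀ : g₀.comp MvPolynomial.C = φ) (het₀ : g₀.Etale) :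
    ∃ f : B, q f = 1 ∧ ∀ (D : Type u) [CommRing D] [Algebra B D] [IsLocalization.Away f D],
      ∃ rs : List D, rs.length = n ∧ IsWeaklyRegular D rs ∧
        (RingHom.ker q).map (algebraMap B D) = Ideal.ofList rs := by
  classical
  obtain ⟨g, hg, het, hqg⟩ := exists_translated φ q hq g₀ hg₀ het₀
  let P := MvPolynomial (Fin n) R
  let y : Fin n → B := fun i => g (MvPolynomial.X i)
  let J : Ideal B := Ideal.span (Set.range y)
  have hJ : J ≤ RingHom.ker q := Ideal.span_le.2 (by
    rintro _ ⟨i, rfl⟩
    exact RingHom.mem_ker.2 ((RingHom.congr_fun hqg _).trans (MvPolynomial.constantCoeff_X _ i)))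
  letI : Algebra P B := g.toAlgebra
  haveI : Algebra.Etale P B := het
  let mk := Ideal.Quotient.mk J
  have hC : ∀ p : P, mk (φ (q (g p))) = mk (g p) := by
    intro p
    refine RingHom.congr_fun (f := ((mk.comp φ).comp q).comp g) (g := mk.comp g) ?_ p
    refine MvPolynomial.ringHom_ext (fun r => ?_) (fun i => ?_)
    · show mk (φ (q (g (MvPolynomial.C r)))) = mk (g (MvPolynomial.C r))
      rw [show g (MvPolynomial.C r) = φ r from RingHom.congr_fun hg r, show q (φ r) = r from RingHom.congr_fun hq r]
    · show mk (φ (q (y i))) = mk (y i)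
      have hy : y i ∈ J := Ideal.subset_span (Set.mem_range_self i)
      rw [show q (y i) = 0 from RingHom.mem_ker.1 (hJ hy), map_zero, map_zero]
      exact (Ideal.Quotient.eq_zero_iff_mem.2 hy).symm
  let a : B →ₐ[P] B ⧸ J := { toRingHom := mk, commutes' := fun _ => rfl }
  let b : B →ₐ[P] B ⧸ J := { toRingHom := (mk.comp φ).comp q, commutes' := fun p => hC p }
  let θ : B ⊗[P] B →ₐ[P] B ⧸ J := Algebra.TensorProduct.productMap a b
  let E := Algebra.FormallyUnramified.elem P B
  let q' : B ⧸ J →+* R := Ideal.Quotient.lift J q fun x hx => RingHom.mem_ker.1 (hJ hx)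
  have hθ : ∀ s t : B, θ (s ⊗ₜ t) = mk s * mk (φ (q t)) := fun s t =>
    Algebra.TensorProduct.productMap_apply_tmul a b s t
  have hq' : ∀ x, q' (θ x) = q (Algebra.TensorProduct.lmul' P x) := by
    intro x
    induction x using TensorProduct.induction_on with
    | zero => simp
    | tmul s t =>
      rw [hθ, Algebra.TensorProduct.lmul'_apply_tmul, map_mul, map_mul]
      show q s * q (φ (q t)) = _
      rw [show q (φ (q t)) = q t from RingHom.congr_fun hq _]
    | add s t hs ht => rw [map_add, map_add, hs, ht, map_add, map_add]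
  obtain ⟨f, hf⟩ := Ideal.Quotient.mk_surjective (θ E)
  have hqf : q f = 1 := by
    have h := hq' E
    rw [← hf, Algebra.FormallyUnramified.lmul_elem, map_one] at h
    exact h
  have hann : ∀ s ∈ RingHom.ker q, s * f ∈ J := by
    intro s hs
    have h := congrArg θ (Algebra.FormallyUnramified.one_tmul_sub_tmul_one_mul_elem (R := P) s)
    simp only [map_mul, map_sub, map_zero, hθ, RingHom.mem_ker.1 hs, map_one, mul_zero, mul_one,
      zero_sub, neg_mul, neg_eq_zero] at h
    refine Ideal.Quotient.eq_zero_iff_mem.1 ?_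
    rw [map_mul, hf]
    exact h
  refine ⟨f, hqf, fun D _ _ _ => ?_⟩
  letI : Algebra P D := ((algebraMap B D).comp g).toAlgebra
  haveI : IsScalarTower P B D := IsScalarTower.of_algebraMap_eq fun _ => rfl
  haveI : Module.Flat B D := IsLocalization.flat D (Submonoid.powers f)
  haveI : Module.Flat P D := Module.Flat.trans P B D
  refine ⟨List.ofFn fun i => algebraMap P D (MvPolynomial.X i), List.length_ofFn, L02.CAlg.QFSlice.isWeaklyRegular_of_flat_poly, ?_⟩
  have hlist : Ideal.ofList (List.ofFn fun i => algebraMap P D (MvPolynomial.X i)) = J.map (algebraMap B D) := by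
    rw [Ideal.map_span, ← Set.range_comp]
    refine congrArg Ideal.span (Set.ext fun x => ?_)
    simp only [Set.mem_setOf_eq, List.mem_ofFn, Set.mem_range]
    rfl
  rw [hlist]
  refine le_antisymm (Ideal.map_le_iff_le_comap.2 fun s hs => ?_) (Ideal.map_mono hJ)
  have hu : IsUnit (algebraMap B D f) := IsLocalization.Away.algebraMap_isUnit f
  exact (Ideal.mul_unit_mem_iff_mem _ hu).1 (by rw [← map_mul]; exact Ideal.mem_map_of_mem _ (hann s hs))

/-- Near a section of a standard smooth algebra, the kernel of the retraction is generated by a weakly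
regular sequence. -/
theorem exists_regular_sequence {R B : Type u} [CommRing R] [CommRing B] (φ : R →+* B) (hφ : φ.IsStandardSmooth)
    (q : B →+* R) (hq : q.comp φ = RingHom.id R) :
    ∃ f : B, q f = 1 ∧ ∀ (D : Type u) [CommRing D] [Algebra B D] [IsLocalization.Away f D],
      ∃ rs : List D, IsWeaklyRegular D rs ∧ (RingHom.ker q).map (algebraMap B D) = Ideal.ofList rs := by
  obtain ⟨n, g, hg, het⟩ := RingHom.IsStandardSmooth.exists_etale_mvPolynomial hφ
  obtain ⟨f, hf, H⟩ := exists_regular_sequence_of_etale φ q hq g hg het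
  exact ⟨f, hf, fun D _ _ _ => (H D).imp fun rs h => h.2⟩

end Groth.L16.SmoothSection
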