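import Groth.Agent.L16.SmoothSection.Algebra
import Groth.Agent.L21.SmoothCurveDim
import Groth.Prelude.Def_RegImm
import Mathlib.AlgebraicGeometry.Morphisms.Smooth
import Mathlib.AlgebraicGeometry.IdealSheaf.Subscheme

/-!
# Sections of morphisms smooth of relative dimension `n` are regular of codimension `n`
-/

set_option autoImplicit false
universe u

open CategoryTheory CategoryTheory.Limits AlgebraicGeometry TopologicalSpace

namespace Groth.L16.SmoothSection

/-- A closed section of a morphism smooth of relative dimension `n` is regular of codimension `n`. -/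
theorem isRegularImmersionOfCodim_section {X S : Scheme.{u}} (f : X ⟶ S) (n : ℕ) [SmoothOfRelativeDimension n f]
    (σ : S ⟶ X) (hσ : σ ≫ f = 𝟙 S) [IsClosedImmersion σ] :
    RegImm.IsRegularImmersionOfCodim RegImm.Kind.regular n σ := by
  refine ⟨inferInstance, fun z => ?_⟩
  have hfσ : ∀ t, f (σ t) = t := fun t => by
    rw [← Scheme.Hom.comp_apply, hσ]; rfl
  obtain ⟨U, hU, W, hW, hzW, e, hstd⟩ :=
    SmoothOfRelativeDimension.exists_isStandardSmoothOfRelativeDimension (n := n) (f := f) (σ z)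
  have hzU : z ∈ U := by simpa [hfσ] using e hzW
  obtain ⟨r, hr, hzr⟩ := hU.exists_basicOpen_le (V := σ ⁻¹ᵁ W) (x := ⟨z, hzW⟩) hzU
  let φ₀ := f.appLE U W e
  let W' := X.basicOpen (φ₀ r)
  have hW' : IsAffineOpen W' := hW.basicOpen _
  have hU' : IsAffineOpen (S.basicOpen r) := hU.basicOpen r
  have hW'eq : W' = W ⊓ f ⁻¹ᵁ S.basicOpen r := Scheme.basicOpen_appLE f W U e r
  have e₁ : W' ≤ f ⁻¹ᵁ S.basicOpen r := hW'eq ▸ inf_le_right
  have hpre : σ ⁻¹ᵁ W' = S.basicOpen r := by
    rw [hW'eq]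
    ext t
    refine ⟨fun h => ?_, fun h => ⟨hr h, ?_⟩⟩
    · have h2 : f (σ t) ∈ S.basicOpen r := h.2
      rwa [hfσ] at h2
    · show f (σ t) ∈ S.basicOpen r
      rw [hfσ]; exact h
  let φ := f.appLE (S.basicOpen r) W' e₁
  have hφ : φ.hom.IsStandardSmoothOfRelativeDimension n := by
    letI := hU.isLocalization_basicOpen r
    letI := hW.isLocalization_basicOpen (φ₀ r)
    have h := RingHom.LocalizationPreserves.away (RingHom.isStandardSmoothOfRelativeDimension_localizationPreserves n)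
      φ₀.hom r
      Γ(S, S.basicOpen r) Γ(X, W') hstd
    have e' : φ = CommRingCat.ofHom
        (IsLocalization.Away.map Γ(S, S.basicOpen r) Γ(X, W') φ₀.hom r) :=
      IsAffineOpen.appLE_eq_away_map f hU hW e r
    rw [e']
    exact h
  let q := σ.appLE W' (S.basicOpen r) hpre.ge
  have hq : q.hom.comp φ.hom = RingHom.id _ := by
    rw [← CommRingCat.hom_comp, Scheme.Hom.appLE_comp_appLE]
    have : ∀ (g : S ⟶ S) (e'' : S.basicOpen r ≤ g ⁻¹ᵁ S.basicOpen r), g = 𝟙 S →
        (g.appLE (S.basicOpen r) (S.basicOpen r) e'').hom = RingHom.id _ := by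
      rintro g e'' rfl
      rw [Scheme.Hom.appLE, Scheme.Hom.id_app]
      exact congrArg CommRingCat.Hom.hom ((Category.id_comp _).trans (S.presheaf.map_id _))
    exact this _ _ hσ
  obtain ⟨g, hg, het⟩ := RingHom.IsStandardSmoothOfRelativeDimension.exists_etale_mvPolynomial hφ
  obtain ⟨f₀, hf₀, H⟩ := exists_regular_sequence_of_etale φ.hom q.hom hq g hg het
  let W'' := X.basicOpen f₀
  have hW'' : IsAffineOpen W'' := hW'.basicOpen _
  haveI := hW'.isLocalization_basicOpen f₀
  obtain ⟨rs, hlen, hrs, hmap⟩ := H Γ(X, W'')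
  have hzW'' : σ z ∈ W'' := by
    have h1 : S.basicOpen (q f₀) = S.basicOpen r ⊓ σ ⁻¹ᵁ W'' := Scheme.basicOpen_appLE σ _ W' hpre.ge f₀
    rw [show q f₀ = 1 from hf₀, Scheme.basicOpen_of_isUnit _ isUnit_one] at h1
    exact (h1.le hzr).2
  have hker₀ : σ.ker.ideal ⟨W', hW'⟩ = RingHom.ker q.hom := by
    rw [Scheme.Hom.ker_apply]
    have : q = σ.app W' ≫ S.presheaf.map (eqToHom hpre.symm).op := by
      simp [q, Scheme.Hom.appLE]; rfl
    rw [this, CommRingCat.hom_comp]
    exact (RingHom.ker_comp_of_injective _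
      ((ConcreteCategory.bijective_of_isIso (S.presheaf.map (eqToHom hpre.symm).op)).1)).symm
  have hker : σ.ker.ideal ⟨W'', hW''⟩ = Ideal.ofList rs := by
    rw [← hmap, ← hker₀]
    exact (σ.ker.map_ideal_basicOpen ⟨W', hW'⟩ f₀).symm
  refine ⟨⟨W'', hW''⟩, hzW'', inferInstance, rs, hlen, ⟨hrs, fun htop => ?_⟩,
    (Scheme.Hom.ker_apply σ ⟨W'', hW''⟩).symm.trans hker⟩
  have htop' : σ.ker.ideal ⟨W'', hW''⟩ = ⊤ := by
    rw [hker]
    exact (htop.trans (by simp)).symm
  have hsupp : σ z ∈ σ.ker.support := σ.range_subset_ker_support ⟨z, rfl⟩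
  rw [Scheme.IdealSheafData.mem_support_iff_of_mem (U := ⟨W'', hW''⟩) hzW'', htop'] at hsupp
  rw [Scheme.mem_zeroLocus_iff] at hsupp
  exact hsupp 1 trivial (by simp [Scheme.basicOpen_of_isUnit _ isUnit_one, hzW''])

end Groth.L16.SmoothSection
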